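import Mathlib

universe u

set_option linter.style.haveILetI false

open CategoryTheory Limits MorphismProperty AlgebraicGeometry

namespace Groth.Agent.H06Desc

set_option backward.isDefEq.respectTransparency.types false in
/-- Universal openness can be checked after base change along a surjective closed immersion. -/
theorem universallyOpen_of_surjective_isClosedImmersion {X Y Y' : Scheme.{u}} (i : Y' ⟶ Y)
    [IsClosedImmersion i] [Surjective i] (f : X ⟶ Y) [UniversallyOpen (pullback.fst i f)] :
    UniversallyOpen f := by
  refine ⟨universally_mk' _ _ fun {T} g _ s hs ↦ ?_⟩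
  let p := pullback.fst (pullback.fst i g) (pullback.fst i f)
  let r : pullback (pullback.fst i g) (pullback.fst i f) ⟶ pullback g f :=
    pullback.map _ _ _ _ (pullback.snd _ _) (pullback.snd _ _) i (pullback.condition ..)
      (pullback.condition ..)
  have h : IsOpen ((pullback.snd i g).base ⁻¹' ((pullback.fst g f).base '' s)) := by
    rw [← Scheme.image_preimage_eq_of_isPullback (isPullback_map_snd_snd ..)]
    exact p.isOpenMap _ (hs.preimage r.continuous)
  have hq : Topology.IsQuotientMap (pullback.snd i g) :=
    (pullback.snd i g).isClosedMap.isQuotientMap (pullback.snd i g).continuous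
      (pullback.snd i g).surjective
  rwa [hq.isOpen_preimage] at h

theorem universallyOpen_of_discreteTopology {X Y : Scheme.{u}} (f : X ⟶ Y) [DiscreteTopology Y] :
    UniversallyOpen f := by
  wlog hY : Subsingleton Y generalizing X Y
  · rw [IsZariskiLocalAtTarget.iff_of_iSup_eq_top (P := @UniversallyOpen)
      (fun y : Y => (⟨{y}, isOpen_discrete _⟩ : Y.Opens))
      (by ext z; simp)]
    intro y
    haveI i1 : Subsingleton ((⟨{y}, isOpen_discrete _⟩ : Y.Opens) : Scheme) :=
      inferInstanceAs (Subsingleton ({y} : Set Y))
    haveI i2 : DiscreteTopology ((⟨{y}, isOpen_discrete _⟩ : Y.Opens) : Scheme) :=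
      inferInstanceAs (DiscreteTopology ({y} : Set Y))
    exact this _ inferInstance
  rcases isEmpty_or_nonempty Y with hE | ⟨⟨y⟩⟩
  · exact ⟨universally_mk' _ _ fun {T} g _ s hs ↦ by
      haveI : IsEmpty T := ⟨fun t => hE.false (g.base t)⟩
      rw [Set.eq_empty_of_isEmpty ((pullback.fst g f).base '' s)]
      exact isOpen_empty⟩
  haveI : IsClosedImmersion (Y.fromSpecResidueField y) :=
    isClosed_singleton_iff_isClosedImmersion.mp (isClosed_discrete _)
  haveI : Surjective (Y.fromSpecResidueField y) :=
    ⟨fun z => ⟨IsLocalRing.closedPoint _, Subsingleton.elim _ _⟩⟩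
  haveI : UniversallyOpen (pullback.fst (Y.fromSpecResidueField y) f) := inferInstance
  exact universallyOpen_of_surjective_isClosedImmersion (Y.fromSpecResidueField y) f

end Groth.Agent.H06Desc
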