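import Mathlib
import Groth.Agent.H22Alg.FlatSurj

/-! Flat surjective morphisms are schematically dominant. -/

universe u

open CategoryTheory Limits AlgebraicGeometry

namespace Groth.Agent.H06Desc

theorem app_injective_of_flat_surjective {X Y : Scheme.{u}} (f : X ⟶ Y) [Flat f] [Surjective f]
    (U : Y.Opens) : Function.Injective (f.app U) := by
  refine (injective_iff_map_eq_zero (f.app U).hom).mpr fun s hs => ?_
  refine TopCat.Presheaf.section_ext Y.sheaf U s 0 fun y hy => ?_
  obtain ⟨x, rfl⟩ := f.surjective y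
  apply Groth.Agent.H22Alg.stalkMap_injective_of_flat f x
  change (f.stalkMap x).hom (Y.presheaf.germ U (f x) hy s) =
    (f.stalkMap x).hom (Y.presheaf.germ U (f x) hy 0)
  rw [map_zero, map_zero]
  rw [Scheme.Hom.germ_stalkMap_apply f U x hy s]
  exact (congrArg (X.presheaf.germ (f ⁻¹ᵁ U) x hy) hs).trans (map_zero _)

theorem ker_eq_bot_of_app_injective {X Y : Scheme.{u}} (f : X ⟶ Y)
    (h : ∀ U, Function.Injective (f.app U)) : f.ker = ⊥ := by
  rw [eq_bot_iff]
  intro U
  refine (f.ideal_ker_le U).trans fun x hx => ?_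
  simpa using h _ ((RingHom.mem_ker.mp hx).trans (map_zero (f.app U).hom).symm)

theorem map_comap_of_flat_surjective {X Y : Scheme.{u}} (f : X ⟶ Y) [Flat f] [Surjective f]
    (J : Y.IdealSheafData) : (J.comap f).map f = J := by
  have hk : (pullback.snd f J.subschemeι).ker = ⊥ :=
    ker_eq_bot_of_app_injective _ (app_injective_of_flat_surjective _)
  calc (J.comap f).map f
      = ((J.comap f).subschemeι ≫ f).ker := rfl
    _ = ((J.comapIso f).hom ≫ pullback.snd f J.subschemeι ≫ J.subschemeι).ker := by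
        rw [← Scheme.IdealSheafData.comapIso_hom_fst, Category.assoc, pullback.condition]
    _ = (pullback.snd f J.subschemeι ≫ J.subschemeι).ker := Scheme.Hom.ker_comp_of_isIso _ _
    _ = (pullback.snd f J.subschemeι).ker.map J.subschemeι :=
        (Scheme.IdealSheafData.map_ker _ _).symm
    _ = J := by
        rw [hk, ← Scheme.Hom.ker_eq_bot_of_isIso (𝟙 J.subscheme), Scheme.IdealSheafData.map_ker,
          Category.id_comp, J.ker_subschemeι]

theorem comap_injective_of_flat_surjective {X Y : Scheme.{u}} (f : X ⟶ Y) [Flat f] [Surjective f] :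
    Function.Injective fun J : Y.IdealSheafData => J.comap f :=
  fun J K h => by
    rw [← map_comap_of_flat_surjective f J, ← map_comap_of_flat_surjective f K]
    exact congrArg (fun I => Scheme.IdealSheafData.map I f) h

theorem injOn_sections_of_baseChange {X X' : Scheme.{u}} {ι : Type*} (Z : ι → Scheme.{u})
    (f : ∀ i, Z i ⟶ X) (g : X' ⟶ X) [Flat g] [Surjective g]
    (h : ∀ (V : X'.Opens) (t : Γ(X', V)), (∀ i, (pullback.snd (f i) g).app V t = 0) → t = 0)
    (V : X.Opens) (t : Γ(X, V)) (ht : ∀ i, (f i).app V t = 0) : t = 0 := by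
  apply app_injective_of_flat_surjective g V
  rw [map_zero]
  refine h (g ⁻¹ᵁ V) _ fun i => ?_
  have e : pullback.snd (f i) g ≫ g = pullback.fst (f i) g ≫ f i := pullback.condition.symm
  have h1 : (pullback.snd (f i) g ≫ g).app V t =
      (pullback.snd (f i) g).app (g ⁻¹ᵁ V) (g.app V t) := rfl
  rw [← h1, Scheme.Hom.congr_app e V]
  rw [Scheme.Hom.comp_app]
  change ((pullback (f i) g).presheaf.map _).hom
    (((pullback.fst (f i) g).app (f i ⁻¹ᵁ V)).hom ((f i).app V t)) = 0
  rw [ht i, map_zero, map_zero]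

theorem dense_iUnion_range_of_injOn_sections {X : Scheme.{u}} {ι : Type*} (Z : ι → Scheme.{u})
    (f : ∀ i, Z i ⟶ X)
    (h : ∀ (V : X.Opens) (t : Γ(X, V)), (∀ i, (f i).app V t = 0) → t = 0) :
    Dense (⋃ i, Set.range (f i)) := by
  rw [dense_iff_inter_open]
  intro V hV hne
  by_contra he
  rw [Set.not_nonempty_iff_eq_empty, Set.eq_empty_iff_forall_notMem] at he
  obtain ⟨x, hx⟩ := hne
  let W : X.Opens := ⟨V, hV⟩
  have h0 : (1 : Γ(X, W)) = 0 := h W 1 fun i => by
    have : (f i) ⁻¹ᵁ W = ⊥ := by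
      ext z
      simp only [TopologicalSpace.Opens.map_coe, Set.mem_preimage, TopologicalSpace.Opens.coe_bot,
        Set.mem_empty_iff_false, iff_false]
      exact fun hz => he _ ⟨hz, Set.mem_iUnion.mpr ⟨i, z, rfl⟩⟩
    have : Subsingleton Γ(Z i, (f i) ⁻¹ᵁ W) := by
      rw [this]
      exact CommRingCat.subsingleton_of_isTerminal ((Z i).sheaf.isTerminalOfEmpty)
    exact Subsingleton.elim _ _
  have : (1 : X.presheaf.stalk x) = 0 := by
    have := congrArg (X.presheaf.germ W x hx).hom h0
    simp at this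
  exact one_ne_zero this

theorem injOn_sections_of_dense {X : Scheme.{u}} [IsReduced X] {ι : Type*} (Z : ι → Scheme.{u})
    (f : ∀ i, Z i ⟶ X) (hd : Dense (⋃ i, Set.range (f i)))
    (V : X.Opens) (t : Γ(X, V)) (ht : ∀ i, (f i).app V t = 0) : t = 0 := by
  rw [← basicOpen_eq_bot_iff]
  by_contra hne
  obtain ⟨x, hx⟩ := (TopologicalSpace.Opens.ne_bot_iff_nonempty _).mp hne
  obtain ⟨y, hy, hy'⟩ := hd.inter_open_nonempty _ (X.basicOpen t).isOpen ⟨x, hx⟩
  obtain ⟨i, z, rfl⟩ := Set.mem_iUnion.mp hy'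
  have : z ∈ (f i) ⁻¹ᵁ X.basicOpen t := hy
  rw [Scheme.preimage_basicOpen, ht i, Scheme.basicOpen_zero] at this
  exact this

end Groth.Agent.H06Desc
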