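import Mathlib
import Groth.Prelude.Def_FDesc
import Groth.Agent.H06Desc.SchDominant
import Groth.Agent.H06Desc.Discrete
import Groth.Agent.H19Grp.AlgClosedGeom

/-! Geometric properties over fields: descent along surjective morphisms and field extensions. -/

universe u

open CategoryTheory Limits MorphismProperty AlgebraicGeometry

set_option linter.style.haveILetI false

namespace Groth.Agent.H06Desc

section descent

theorem irreducibleSpace_of_surjective {A B : Scheme.{u}} (p : A ⟶ B) [Surjective p]
    [IrreducibleSpace A] : IrreducibleSpace B := by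
  rw [irreducibleSpace_def, Set.top_eq_univ, ← p.surjective.range_eq, ← Set.image_univ]
  exact (IrreducibleSpace.isIrreducible_univ A).image _ p.continuous.continuousOn

theorem connectedSpace_of_surjective {A B : Scheme.{u}} (p : A ⟶ B) [Surjective p]
    [ConnectedSpace A] : ConnectedSpace B := by
  rw [connectedSpace_iff_univ, ← p.surjective.range_eq, ← Set.image_univ]
  exact isConnected_univ.image _ p.continuous.continuousOn

/-- Every geometric fibre is a quotient of a geometric fibre after a surjective base change. -/
theorem geometrically_of_pullback_snd (P : ObjectProperty Scheme.{u}) [P.IsClosedUnderIsomorphisms]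
    (hP : ∀ {A B : Scheme.{u}} (p : A ⟶ B) [Flat p] [Surjective p], P A → P B)
    {X Y Y' : Scheme.{u}} (f : X ⟶ Y) (g : Y' ⟶ Y) [Surjective g]
    (h : geometrically P (pullback.snd f g)) : geometrically P f := by
  rw [geometrically_iff_of_isClosedUnderIsomorphisms]
  intro K _ y
  obtain ⟨p⟩ : Nonempty ↥(pullback y g) := by
    obtain ⟨y', hy'⟩ := g.surjective (y.base (IsLocalRing.closedPoint K))
    obtain ⟨p, -, -⟩ := Scheme.Pullback.exists_preimage_pullback (f := y) (g := g) _ y' hy'.symm
    exact ⟨p⟩
  let T := pullback y g
  let L := T.residueField p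
  let a : Spec (CommRingCat.of L) ⟶ Spec (CommRingCat.of K) :=
    T.fromSpecResidueField p ≫ pullback.fst y g
  let b : Spec (CommRingCat.of L) ⟶ Y' := T.fromSpecResidueField p ≫ pullback.snd y g
  have hab : a ≫ y = b ≫ g := by simp [a, b, pullback.condition, T]
  haveI : Flat a := by
    obtain ⟨φ, hφ⟩ := Spec.map_surjective a
    rw [← hφ, Flat.SpecMap_iff, RingHom.Flat]
    letI := φ.hom.toAlgebra
    infer_instance
  haveI : Surjective a := ⟨fun z => ⟨IsLocalRing.closedPoint L, Subsingleton.elim _ _⟩⟩
  let e : pullback (pullback.snd f g) b ≅ pullback (pullback.snd f y) a :=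
    pullbackLeftPullbackSndIso f g b ≪≫ pullback.congrHom rfl hab.symm ≪≫
      (pullbackLeftPullbackSndIso f y a).symm
  have h1 : P (pullback (pullback.snd f y) a) :=
    P.prop_of_iso e (pullback_of_geometrically h L b)
  haveI : Surjective (pullback.fst (pullback.snd f y) a) := inferInstance
  exact hP (pullback.fst (pullback.snd f y) a) h1

theorem geometricallyIrreducible_of_pullback_snd {X Y Y' : Scheme.{u}} (f : X ⟶ Y) (g : Y' ⟶ Y)
    [Surjective g] [GeometricallyIrreducible (pullback.snd f g)] : GeometricallyIrreducible f :=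
  ⟨geometrically_of_pullback_snd _ (fun p _ _ h => @irreducibleSpace_of_surjective _ _ p _ h) f g
    GeometricallyIrreducible.geometrically_irreducibleSpace⟩

theorem geometricallyConnected_of_pullback_snd {X Y Y' : Scheme.{u}} (f : X ⟶ Y) (g : Y' ⟶ Y)
    [Surjective g] [GeometricallyConnected (pullback.snd f g)] : GeometricallyConnected f :=
  ⟨geometrically_of_pullback_snd _ (fun p _ _ h => @connectedSpace_of_surjective _ _ p _ h) f g
    GeometricallyConnected.geometrically_connectedSpace⟩

theorem isReduced_of_flat_surjective {A B : Scheme.{u}} (p : A ⟶ B) [Flat p] [Surjective p]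
    [IsReduced A] : IsReduced B :=
  have (U : B.Opens) : _root_.IsReduced Γ(B, U) :=
    isReduced_of_injective (p.app U).hom (app_injective_of_flat_surjective p U)
  ⟨this⟩

theorem geometricallyReduced_of_pullback_snd {X Y Y' : Scheme.{u}} (f : X ⟶ Y) (g : Y' ⟶ Y)
    [Surjective g] [GeometricallyReduced (pullback.snd f g)] : GeometricallyReduced f :=
  ⟨geometrically_of_pullback_snd _ (fun p _ _ h => @isReduced_of_flat_surjective _ _ p _ _ h) f g
    GeometricallyReduced.geometrically_isReduced⟩

theorem geometrically_of_surjective_hom (P : ObjectProperty Scheme.{u})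
    [P.IsClosedUnderIsomorphisms]
    (hP : ∀ {A B : Scheme.{u}} (p : A ⟶ B) [Surjective p], P A → P B)
    {X Y S : Scheme.{u}} (f : X ⟶ S) (g : Y ⟶ S) (h : X ⟶ Y) (w : h ≫ g = f) [Surjective h]
    (hf : geometrically P f) : geometrically P g := by
  rw [geometrically_iff_of_isClosedUnderIsomorphisms]
  intro K _ y
  subst w
  have h1 : P (pullback h (pullback.fst g y)) :=
    P.prop_of_iso (pullbackRightPullbackFstIso g y h).symm (pullback_of_geometrically hf K y)
  exact hP (pullback.snd h (pullback.fst g y)) h1

end descent

section field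

variable {k : Type u} [Field k]

instance surjective_Spec_map {K : Type u} [Field K] (φ : CommRingCat.of k ⟶ CommRingCat.of K) :
    Surjective (Spec.map φ) :=
  ⟨fun _ => ⟨IsLocalRing.closedPoint K, Subsingleton.elim _ _⟩⟩

theorem geometricallyIrreducible_iff_bcStr {K : Type u} [Field K] [Algebra k K] {X : Scheme.{u}}
    (f : X ⟶ Spec (CommRingCat.of k)) :
    GeometricallyIrreducible f ↔ GeometricallyIrreducible (FBase.bcStr f K) :=
  ⟨fun _ => (inferInstance :
    GeometricallyIrreducible (pullback.snd f (Spec.map (CommRingCat.ofHom (algebraMap k K))))), fun h => by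
    haveI : GeometricallyIrreducible
      (pullback.snd f (Spec.map (CommRingCat.ofHom (algebraMap k K)))) := h
    exact geometricallyIrreducible_of_pullback_snd f
      (Spec.map (CommRingCat.ofHom (algebraMap k K)))⟩

theorem geometricallyConnected_iff_bcStr {K : Type u} [Field K] [Algebra k K] {X : Scheme.{u}}
    (f : X ⟶ Spec (CommRingCat.of k)) :
    GeometricallyConnected f ↔ GeometricallyConnected (FBase.bcStr f K) :=
  ⟨fun _ => (inferInstance :
    GeometricallyConnected (pullback.snd f (Spec.map (CommRingCat.ofHom (algebraMap k K))))), fun h => by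
    haveI : GeometricallyConnected
      (pullback.snd f (Spec.map (CommRingCat.ofHom (algebraMap k K)))) := h
    exact geometricallyConnected_of_pullback_snd f
      (Spec.map (CommRingCat.ofHom (algebraMap k K)))⟩

theorem geometricallyReduced_iff_bcStr {K : Type u} [Field K] [Algebra k K] {X : Scheme.{u}}
    (f : X ⟶ Spec (CommRingCat.of k)) :
    GeometricallyReduced f ↔ GeometricallyReduced (FBase.bcStr f K) :=
  ⟨fun _ => (inferInstance :
    GeometricallyReduced (pullback.snd f (Spec.map (CommRingCat.ofHom (algebraMap k K))))), fun h => by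
    haveI : GeometricallyReduced
      (pullback.snd f (Spec.map (CommRingCat.ofHom (algebraMap k K)))) := h
    exact geometricallyReduced_of_pullback_snd f
      (Spec.map (CommRingCat.ofHom (algebraMap k K)))⟩

theorem universallyClosed_algebraicClosure :
    UniversallyClosed (Spec.map (CommRingCat.ofHom (algebraMap k (AlgebraicClosure k)))) := by
  haveI : IsIntegralHom (Spec.map (CommRingCat.ofHom (algebraMap k (AlgebraicClosure k)))) :=
    IsIntegralHom.SpecMap_iff.mpr
      (algebraMap_isIntegral_iff.mpr inferInstance)
  exact (IsIntegralHom.iff_universallyClosed_and_isAffineHom.mp ‹_›).1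

/-- A connected scheme receiving a nonempty geometrically connected one is geometrically
connected. -/
theorem geometricallyConnected_of_source {X Y : Scheme.{u}} (g : Y ⟶ X)
    (f : X ⟶ Spec (CommRingCat.of k)) [Nonempty Y] [ConnectedSpace X]
    [GeometricallyConnected (g ≫ f)] : GeometricallyConnected f := by
  let s := Spec.map (CommRingCat.ofHom (algebraMap k (AlgebraicClosure k)))
  haveI : UniversallyClosed s := universallyClosed_algebraicClosure
  haveI : UniversallyOpen s := universallyOpen_of_discreteTopology s
  haveI : Surjective s := inferInstance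
  let p := pullback.fst f s
  suffices h : ConnectedSpace ↥(pullback f s) by
    haveI := Groth.Agent.H19Grp.geometricallyConnected_of_connectedSpace (pullback.snd f s)
    exact geometricallyConnected_of_pullback_snd f s
  have hYc : ConnectedSpace ↥(pullback g p) := by
    haveI := pullback_of_geometrically
      (GeometricallyConnected.geometrically_connectedSpace (f := g ≫ f)) (AlgebraicClosure k) s
    exact (pullbackRightPullbackFstIso f s g).hom.homeomorph.connectedSpace_iff.mpr this
  obtain ⟨y⟩ := ‹Nonempty Y›
  have hXne : Nonempty ↥(pullback f s) := hYc.toNonempty.map (pullback.snd g p)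
  suffices PreconnectedSpace ↥(pullback f s) from ⟨hXne⟩
  rw [preconnectedSpace_iff_clopen]
  intro s' hs'
  by_contra! hne
  set r := Set.range (pullback.snd g p)
  have key : ∀ A : Set ↥(pullback f s), IsClopen A → r ⊆ A → A = Set.univ := by
    intro A hA hr
    by_contra hA'
    have hne' : Aᶜ.Nonempty := Set.nonempty_compl.mpr hA'
    have himg : p '' Aᶜ = Set.univ :=
      IsClopen.eq_univ ⟨p.isClosedMap _ hA.compl.isClosed, p.isOpenMap _ hA.compl.isOpen⟩
        (hne'.image _)
    obtain ⟨z, hz, hzy⟩ := himg.ge (Set.mem_univ (g y))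
    obtain ⟨w, -, hw⟩ := Scheme.Pullback.exists_preimage_pullback (f := g) (g := p) y z hzy.symm
    exact hz (hr ⟨w, hw⟩)
  have hpre : _root_.IsPreconnected r := isPreconnected_range (pullback.snd g p).continuous
  by_cases h : (r ∩ s').Nonempty
  · exact hne.2 (key _ hs' (hpre.subset_isClopen hs' h))
  · refine hne.1.ne_empty ?_
    rw [← Set.compl_univ_iff]
    exact key _ hs'.compl fun x hx hxs => h ⟨x, hx, hxs⟩

variable [IsAlgClosed k] {K : Type u} [Field K] [Algebra k K] {X : Scheme.{u}}
  (f : X ⟶ Spec (CommRingCat.of k)) {Z : Set X}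

theorem isIrreducible_preimage_bcπ (hZ : IsIrreducible Z) :
    IsIrreducible ((FBase.bcπ f K).base ⁻¹' Z) :=
  show IsIrreducible ((pullback.fst f (Spec.map (CommRingCat.ofHom (algebraMap k K)))) ⁻¹' Z) from
  hZ.preimage_of_isPreirreducible_fiber _ (Groth.Agent.H19Grp.isOpenMap_pullback_fst f _)
    (fun x => (Groth.Agent.H19Grp.isIrreducible_preimage_fst f _ x).isPreirreducible)
    (by rw [(Groth.Agent.H19Grp.surjective_pullback_fst f _).range_eq, Set.inter_univ]
        exact hZ.nonempty)

theorem isConnected_preimage_bcπ (hZ : _root_.IsConnected Z) :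
    _root_.IsConnected ((FBase.bcπ f K).base ⁻¹' Z) := by
  let p := pullback.fst f (Spec.map (CommRingCat.ofHom (algebraMap k K)))
  have hopen : IsOpenMap (Z.restrictPreimage p) :=
    (Groth.Agent.H19Grp.isOpenMap_pullback_fst f _).restrictPreimage Z
  have hsurj : Function.Surjective (Z.restrictPreimage p) := fun z => by
    obtain ⟨w, hw⟩ := Groth.Agent.H19Grp.surjective_pullback_fst f
      (Spec.map (CommRingCat.ofHom (algebraMap k K))) z.1
    exact ⟨⟨w, by simp [p, hw]⟩, Subtype.ext hw⟩
  haveI : ConnectedSpace Z := isConnected_iff_connectedSpace.mp hZ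
  have hfib : ∀ z : Z, _root_.IsConnected (Z.restrictPreimage p ⁻¹' {z}) := fun z => by
    have himg : Subtype.val '' (Z.restrictPreimage p ⁻¹' {z}) = p ⁻¹' {z.1} := by
      ext w
      simp only [Set.mem_image, Set.mem_preimage, Set.mem_singleton_iff, Subtype.exists,
        exists_and_right, exists_eq_right, Subtype.ext_iff, Set.restrictPreimage_coe]
      exact ⟨fun ⟨_, h⟩ => h, fun h => ⟨by simp [h], h⟩⟩
    have h1 : _root_.IsConnected (p ⁻¹' {z.1}) :=
      (Groth.Agent.H19Grp.isIrreducible_preimage_fst f _ z.1).isConnected
    rw [← himg] at h1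
    exact ⟨h1.nonempty.of_image, Topology.IsInducing.subtypeVal.isPreconnected_image.mp h1.2⟩
  have := (hopen.isQuotientMap ((p.continuous).restrictPreimage) hsurj).isCoinducing
    |>.isConnected_preimage_of_isClosed hfib isClosed_univ isConnected_univ
  rw [Set.preimage_univ] at this
  exact isConnected_iff_connectedSpace.mpr (connectedSpace_iff_univ.mpr this)

end field

end Groth.Agent.H06Desc
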