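import Mathlib

/-! Cancellation of flatness along faithfully flat algebras. -/

universe u v w

open TensorProduct

namespace Groth.Agent.H06Desc

/-- If `R → S → T` with `T` flat over `R` and faithfully flat over `S`, then `S` is flat over `R`. -/
theorem flat_of_faithfullyFlat_top {R : Type u} {S : Type v} {T : Type w} [CommRing R] [CommRing S]
    [CommRing T] [Algebra R S] [Algebra S T] [Algebra R T] [IsScalarTower R S T]
    [Module.FaithfullyFlat S T] [Module.Flat R T] : Module.Flat R S := by
  rw [Module.Flat.iff_lTensor_preserves_injective_linearMap]
  intro N P _ _ _ _ f hf
  have h1 : Function.Injective ((f.baseChange S).lTensor T) := by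
    have h2 : Function.Injective (f.lTensor T) := Module.Flat.lTensor_preserves_injective_linearMap f hf
    have h3 : ∀ z, AlgebraTensorModule.cancelBaseChange R S T T P ((f.baseChange S).lTensor T z) =
        f.lTensor T (AlgebraTensorModule.cancelBaseChange R S T T N z) := by
      intro z
      induction z using TensorProduct.induction_on with
      | zero => simp
      | add a b ha hb => simp [ha, hb]
      | tmul t w =>
        induction w using TensorProduct.induction_on with
        | zero => simp
        | add a b ha hb => simp only [tmul_add, map_add] at ha hb ⊢; rw [ha, hb]
        | tmul s n => simp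
    intro a b hab
    apply (AlgebraTensorModule.cancelBaseChange R S T T N).injective
    apply h2
    rw [← h3, ← h3, hab]
  have := (Module.FaithfullyFlat.lTensor_injective_iff_injective S T _).mp h1
  exact this

end Groth.Agent.H06Desc
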