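import Mathlib

/-! Descent of local noetherianity along fpqc morphisms. -/

universe u

set_option linter.style.haveILetI false

open CategoryTheory Limits AlgebraicGeometry

namespace Groth.Agent.H06Desc

theorem isNoetherianRing_of_faithfullyFlat {A B : Type*} [CommRing A] [CommRing B] [Algebra A B]
    [Module.FaithfullyFlat A B] [IsNoetherianRing B] : IsNoetherianRing A := by
  rw [IsNoetherianRing, isNoetherian_iff']
  exact StrictMono.wellFoundedGT (f := fun I : Ideal A => I.map (algebraMap A B))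
    (fun _ _ h => lt_of_le_of_ne (Ideal.map_mono h.le)
      fun he => h.ne (Ideal.map_injective_of_faithfullyFlat he))

theorem isNoetherianRing_of_flat_surjective {X Y : Scheme.{u}} (f : X ⟶ Y) [Flat f] [Surjective f]
    [IsAffine Y] [CompactSpace X] [IsLocallyNoetherian X] : IsNoetherianRing Γ(Y, ⊤) := by
  let 𝒰 := X.affineCover.finiteSubcover
  have hA : ∀ i, IsAffine (𝒰.X i) := fun i => by
    show IsAffine (X.affineCover.X _)
    infer_instance
  let d := Sigma.desc 𝒰.f
  have : Flat d := inferInstance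
  have : Surjective d := inferInstance
  have hN : IsLocallyNoetherian (∐ 𝒰.X) := by
    refine (isLocallyNoetherian_iff_openCover (sigmaOpenCover 𝒰.X)).mpr fun i => ?_
    change IsLocallyNoetherian (𝒰.X i)
    haveI : IsOpenImmersion (𝒰.f i) := 𝒰.map_prop i
    exact isLocallyNoetherian_of_isOpenImmersion (𝒰.f i)
  let g := d ≫ f
  have hff : (g.appTop).hom.FaithfullyFlat := by
    rw [← flat_and_surjective_SpecMap_iff]
    have e : (∐ 𝒰.X).isoSpec.inv ≫ g ≫ Y.isoSpec.hom = Spec.map g.appTop := by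
      rw [← Scheme.isoSpec_hom_naturality, Iso.inv_hom_id_assoc]
    rw [← e]
    exact ⟨inferInstance, inferInstance⟩
  haveI : IsNoetherianRing Γ(∐ 𝒰.X, ⊤) :=
    IsLocallyNoetherian.component_noetherian ⟨⊤, isAffineOpen_top _⟩
  algebraize [g.appTop.hom]
  haveI : Module.FaithfullyFlat Γ(Y, ⊤) Γ(∐ 𝒰.X, ⊤) := hff
  exact isNoetherianRing_of_faithfullyFlat (B := Γ(∐ 𝒰.X, ⊤))

theorem isLocallyNoetherian_of_flat_surjective_quasiCompact {X Y : Scheme.{u}} (f : X ⟶ Y)
    [Flat f] [Surjective f] [QuasiCompact f] [IsLocallyNoetherian X] : IsLocallyNoetherian Y := by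
  refine ⟨fun U => ?_⟩
  have : IsAffine U.1.toScheme := U.2
  have hW : IsLocallyNoetherian (f ⁻¹ᵁ U.1).toScheme :=
    isLocallyNoetherian_of_isOpenImmersion (f ⁻¹ᵁ U.1).ι
  haveI : CompactSpace (f ⁻¹ᵁ U.1).toScheme :=
    isCompact_iff_compactSpace.mp (QuasiCompact.isCompact_preimage (f := f) _ U.1.2 U.2.isCompact)
  haveI : Flat (f ∣_ U.1) := inferInstance
  haveI : Surjective (f ∣_ U.1) :=
    MorphismProperty.of_isPullback (isPullback_morphismRestrict f U.1).flip inferInstance
  haveI := isNoetherianRing_of_flat_surjective (f ∣_ U.1)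
  exact isNoetherianRing_of_ringEquiv Γ(U.1.toScheme, ⊤) U.1.topIso.commRingCatIsoToRingEquiv

end Groth.Agent.H06Desc
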