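import Mathlib

/-! Descent of normality along faithfully flat maps. -/

universe u v

namespace Groth.Agent.H06Desc

theorem isDomain_and_isIntegrallyClosed_of_faithfullyFlat {A : Type u} {B : Type v} [CommRing A]
    [CommRing B] [Algebra A B] [Module.FaithfullyFlat A B] [IsDomain B] [IsIntegrallyClosed B] :
    IsDomain A ∧ IsIntegrallyClosed A := by
  have hinj : Function.Injective (algebraMap A B) := FaithfulSMul.algebraMap_injective A B
  have : IsDomain A := hinj.isDomain
  refine ⟨this, ?_⟩
  rw [isIntegrallyClosed_iff (FractionRing A)]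
  intro x hx
  obtain ⟨a, b, hb, rfl⟩ := IsFractionRing.div_surjective (A := A) x
  have hb0 : b ≠ 0 := nonZeroDivisors.ne_zero hb
  let φ : FractionRing A →+* FractionRing B :=
    IsFractionRing.lift (A := A) (g := (algebraMap B (FractionRing B)).comp (algebraMap A B))
      ((IsFractionRing.injective B (FractionRing B)).comp hinj)
  have hφ : ∀ c, φ (algebraMap A (FractionRing A) c) = algebraMap B (FractionRing B) (algebraMap A B c) :=
    fun c => IsFractionRing.lift_algebraMap _ c
  obtain ⟨q, hq, hqx⟩ := hx
  have h2 : IsIntegral B (φ (algebraMap A (FractionRing A) a / algebraMap A (FractionRing A) b)) := by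
    refine ⟨q.map (algebraMap A B), hq.map _, ?_⟩
    rw [Polynomial.eval₂_map, show (algebraMap B (FractionRing B)).comp (algebraMap A B) =
      φ.comp (algebraMap A (FractionRing A)) from RingHom.ext fun c => (hφ c).symm,
      ← Polynomial.hom_eval₂, hqx, map_zero]
  obtain ⟨y, hy⟩ := IsIntegrallyClosed.isIntegral_iff.mp h2
  rw [map_div₀, hφ, hφ, eq_div_iff (by simpa [map_eq_zero_iff _ hinj] using hb0), ← map_mul] at hy
  have hy' : y * algebraMap A B b = algebraMap A B a := IsFractionRing.injective B _ hy
  have hmem : a ∈ Ideal.span {b} := by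
    rw [← Ideal.comap_map_eq_self_of_faithfullyFlat (B := B) (Ideal.span {b})]
    rw [Ideal.mem_comap, Ideal.map_span, Set.image_singleton, Ideal.mem_span_singleton]
    exact ⟨y, by rw [← hy', mul_comm]⟩
  obtain ⟨c, rfl⟩ := Ideal.mem_span_singleton.mp hmem
  refine ⟨c, ?_⟩
  rw [map_mul, mul_div_cancel_left₀]
  simpa using hb0

end Groth.Agent.H06Desc
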