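import Mathlib

/-! Quasi-compactness and quasi-separatedness descend to the target of a surjection. -/

universe u

set_option linter.unusedSimpArgs false

set_option linter.style.haveILetI false

open CategoryTheory Limits AlgebraicGeometry

namespace Groth.Agent.H06Desc

theorem quasiCompact_of_surjective_comp {X Y Z : Scheme.{u}} (f : X ⟶ Y) (g : Y ⟶ Z)
    [Surjective f] [QuasiCompact (f ≫ g)] : QuasiCompact g := by
  rw [quasiCompact_iff_forall_isAffineOpen]
  intro U hU
  have h : IsCompact ((f ≫ g) ⁻¹ᵁ U : Set X) := (f ≫ g).isCompact_preimage hU.isCompact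
  have h2 := h.image f.continuous
  rwa [show ((f ≫ g) ⁻¹ᵁ U : Set X) = f ⁻¹' (g ⁻¹ᵁ U : Set Y) from rfl,
    Set.image_preimage_eq _ f.surjective] at h2

theorem quasiSeparated_of_surjective_comp {X Y Z : Scheme.{u}} (f : X ⟶ Y) (g : Y ⟶ Z)
    [Surjective f] [QuasiCompact f] [QuasiSeparated (f ≫ g)] : QuasiSeparated g := by
  refine ⟨?_⟩
  let m : pullback (f ≫ g) (f ≫ g) ⟶ pullback g g :=
    pullback.map _ _ _ _ f f (𝟙 Z) (by simp) (by simp)
  haveI : QuasiCompact m := by
    let a : pullback (f ≫ g) (f ≫ g) ⟶ pullback g (f ≫ g) :=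
      pullback.map _ _ _ _ f (𝟙 X) (𝟙 Z) (by simp) (by simp)
    let b : pullback g (f ≫ g) ⟶ pullback g g :=
      pullback.map _ _ _ _ (𝟙 Y) f (𝟙 Z) (by simp) (by simp)
    have hab : a ≫ b = m := by apply pullback.hom_ext <;> simp [a, b, m, pullback.lift_fst, pullback.lift_snd, pullback.lift_fst_assoc, pullback.lift_snd_assoc, pullback.map]
    have ha : IsPullback a (pullback.fst _ _) (pullback.fst _ _) f := by
      refine (IsPullback.of_right ?_ (by simp [a, pullback.lift_fst, pullback.lift_snd, pullback.lift_fst_assoc, pullback.lift_snd_assoc, pullback.map]) (IsPullback.of_hasPullback g (f ≫ g)).flip).flip.flip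
      simpa [a, pullback.lift_fst, pullback.lift_snd, pullback.lift_fst_assoc, pullback.lift_snd_assoc, pullback.map] using (IsPullback.of_hasPullback (f ≫ g) (f ≫ g)).flip
    have hb : IsPullback b (pullback.snd _ _) (pullback.snd _ _) f := by
      refine IsPullback.of_right ?_ (by simp [b, pullback.lift_fst, pullback.lift_snd, pullback.lift_fst_assoc, pullback.lift_snd_assoc, pullback.map]) (IsPullback.of_hasPullback g g)
      simpa [b, pullback.lift_fst, pullback.lift_snd, pullback.lift_fst_assoc, pullback.lift_snd_assoc, pullback.map] using IsPullback.of_hasPullback g (f ≫ g)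
    haveI : QuasiCompact a := MorphismProperty.of_isPullback ha.flip inferInstance
    haveI : QuasiCompact b := MorphismProperty.of_isPullback hb.flip inferInstance
    rw [← hab]; infer_instance
  have e : pullback.diagonal (f ≫ g) ≫ m = f ≫ pullback.diagonal g := by
    apply pullback.hom_ext <;> simp [m, pullback.lift_fst, pullback.lift_snd, pullback.lift_fst_assoc, pullback.lift_snd_assoc, pullback.map]
  haveI : QuasiCompact (f ≫ pullback.diagonal g) := e ▸ inferInstance
  exact quasiCompact_of_surjective_comp f (pullback.diagonal g)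

end Groth.Agent.H06Desc
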